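import Groth.Agent.UOpenLib.Generization
import Groth.Agent.FibDimLib.Semicont
import Groth.Agent.FibDimLib.QFScheme
import Mathlib

/-! # Fibre dimensions over a valuation ring -/

set_option autoImplicit false
universe u

open CategoryTheory AlgebraicGeometry TopologicalSpace Topology MvPolynomial

namespace ValFibLib

theorem valuationRing_of_ringEquiv {A B : Type u} [CommRing A] [IsDomain A] [ValuationRing A] [CommRing B]
    [IsDomain B] (e : A ≃+* B) : ValuationRing B :=
  (ValuationRing.iff_dvd_total).2 ⟨fun a b => by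
    rcases ValuationRing.dvd_total (e.symm a) (e.symm b) with h | h
    · exact Or.inl (by simpa using map_dvd e h)
    · exact Or.inr (by simpa using map_dvd e h)⟩

/-- A point over the generic point specializing to `x` has a closure in its fibre at least as big as the
fibre at `x`. -/
theorem fibreDimAt_le_fibreClosureDim {A : Type u} [CommRing A] [IsDomain A] [ValuationRing A] {X : Scheme.{u}}
    (f : X ⟶ Spec (CommRingCat.of A)) [LocallyOfFiniteType f] {ζ x : X} (hsp : ζ ⤳ x)
    (hζ : f.base ζ = genericPoint (Spec (CommRingCat.of A)))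
    (hmax : ∀ x' : X, f.base x' = f.base x → x ∈ closure {x'} → x' = x) :
    FlatMor.fibreDimAt f x ≤ UOpenLib.fibreClosureDim f ζ := by
  let S := Spec (CommRingCat.of A)
  let V : S.Opens := ⊤
  have hV : IsAffineOpen V := isAffineOpen_top S
  let e₀ : A ≃+* Γ(S, V) := (Scheme.ΓSpecIso (CommRingCat.of A)).commRingCatIsoToRingEquiv.symm
  haveI : IsDomain Γ(S, V) := e₀.symm.toMulEquiv.isDomain _
  haveI : ValuationRing Γ(S, V) := valuationRing_of_ringEquiv e₀
  obtain ⟨d, hd⟩ := UOpenLib.exists_fibreDimAt_eq_nat f x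
  obtain ⟨U, hU, hxU, eUV, φ, hφ, hft, hqf⟩ := FibDimLib.exists_qf_affine_nhd f x hV trivial d hd
  have hq := UOpenLib.comap_eq_of_le_fibreClosureDim f hV hU eUV φ hφ hqf hxU
    (by rw [← UOpenLib.fibreDimAt_eq_of_max f hmax, hd])
  have hζU : ζ ∈ U := hsp.mem_open U.2 hxU
  let p' := hV.primeIdealOf ⟨f.base ζ, eUV hζU⟩
  have hp' : p'.asIdeal = ⊥ := by
    refine le_antisymm ?_ bot_le
    let P₀ : ↥(Spec Γ(S, V)) := (⟨⊥, Ideal.isPrime_bot⟩ : PrimeSpectrum Γ(S, V))
    have h0 : hV.fromSpec p' ⤳ hV.fromSpec P₀ := by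
      rw [hV.fromSpec_primeIdealOf ⟨f.base ζ, eUV hζU⟩]
      show f.base ζ ⤳ _
      rw [hζ]
      exact genericPoint_specializes _
    exact (PrimeSpectrum.le_iff_specializes _ _).2 (hV.fromSpec.isOpenEmbedding.isInducing.specializes_iff.1 h0)
  have hle : (hU.primeIdealOf ⟨ζ, hζU⟩).asIdeal.comap φ ≤
      (hV.primeIdealOf ⟨f.base x, eUV hxU⟩).asIdeal.map C := by
    rw [← hq]
    exact Ideal.comap_mono ((UOpenLib.primeIdealOf_le_iff hU hζU hxU).2 hsp)
  have hc : ((hU.primeIdealOf ⟨ζ, hζU⟩).asIdeal.comap φ).comap C = (⊥ : Ideal Γ(S, V)) := by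
    rw [← hp']
    exact congrArg PrimeSpectrum.asIdeal (UOpenLib.comap_primeIdealOf f hV hU eUV φ hφ ζ hζU)
  have hbot : (hU.primeIdealOf ⟨ζ, hζU⟩).asIdeal.comap φ = ⊥ := by
    rw [eq_bot_iff]
    intro P hP
    by_contra hP0
    obtain ⟨c, P₀, hcne, hPc, m, hm⟩ := UOpenLib.exists_C_mul_eq P hP0
    rw [hPc] at hP
    rcases (Ideal.IsPrime.mem_or_mem inferInstance hP) with h' | h'
    · have h2 : c ∈ ((hU.primeIdealOf ⟨ζ, hζU⟩).asIdeal.comap φ).comap C := h'
      rw [hc] at h2
      exact hcne ((Ideal.mem_bot).mp h2)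
    · have := MvPolynomial.mem_map_C_iff.mp (hle h') m
      rw [hm] at this
      exact (hV.primeIdealOf ⟨f.base x, eUV hxU⟩).isPrime.ne_top (Ideal.eq_top_of_isUnit_mem _ this isUnit_one)
  rw [hd]
  refine UOpenLib.le_fibreClosureDim_of_comap_eq f hV hU eUV φ hφ hft hζU ?_
  rw [hbot, show (hV.primeIdealOf ⟨f.base ζ, eUV hζU⟩).asIdeal = ⊥ from hp', Ideal.map_bot]

/-- If every point of the fibre over `s` is a specialization of a point of the generic fibre, the fibre
over `s` is no bigger than the generic fibre. -/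
theorem fiber_dim_le_generic {A : Type u} [CommRing A] [IsDomain A] [ValuationRing A] {X : Scheme.{u}}
    (f : X ⟶ Spec (CommRingCat.of A)) [LocallyOfFiniteType f] (s : Spec (CommRingCat.of A))
    (h : ∀ x : X, f.base x = s → ∃ ζ : X, ζ ⤳ x ∧ f.base ζ = genericPoint (Spec (CommRingCat.of A))) :
    topologicalKrullDim (f.fiber s) ≤ topologicalKrullDim (f.fiber (genericPoint (Spec (CommRingCat.of A)))) := by
  rw [FibDimLib.topologicalKrullDim_fiber_le_iff]
  intro x hx
  obtain ⟨x₀, hx₀, -, hmax, he⟩ := UOpenLib.exists_max_fibreDimAt f x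
  obtain ⟨ζ, hζ, hζη⟩ := h x₀ (hx₀.trans hx)
  rw [← he, ← UOpenLib.fibreDimAt_eq_of_max f hmax]
  refine (fibreDimAt_le_fibreClosureDim f hζ hζη hmax).trans ?_
  rw [← hζη]
  exact FibDimLib.fibreClosureDim_le_fiber f ζ

end ValFibLib
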