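import Mathlib
import Groth.Agent.EquidimLib.DimFormula

/-!
# Fibre dimensions over valuation rings
-/

set_option autoImplicit false
universe u

open CategoryTheory Limits AlgebraicGeometry TopologicalSpace Topology

namespace ValFibLib

open UOpenLib DimIneqLib EquidimLib

/-- Residue extensions over a valuation domain have smaller transcendence degree. -/
theorem tr_quotient_le {R T : Type u} [CommRing R] [IsDomain R] (htot : ∀ a b : R, a ∣ b ∨ b ∣ a)
    [CommRing T] [IsDomain T] [Algebra R T] [FaithfulSMul R T] (P : Ideal T) [P.IsPrime]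
    (p : Ideal R) [p.IsPrime] [P.LiesOver p] : tr (R ⧸ p) (T ⧸ P) ≤ tr R T := by
  refine OrderHomClass.mono Cardinal.toENat (ciSup_le' fun s => ?_)
  let x : (s.1 : Set (T ⧸ P)) → T := fun i => Function.surjInv Ideal.Quotient.mk_surjective i.1
  have hx : ∀ i, Ideal.Quotient.mk P (x i) = i.1 := fun i => Function.surjInv_eq _ _
  have hs : AlgebraicIndependent (R ⧸ p) (fun i : (s.1 : Set (T ⧸ P)) => (i.1 : T ⧸ P)) := s.2
  refine AlgebraicIndependent.cardinalMk_le_trdeg (x := x) (algebraicIndependent_iff.mpr fun F hF => ?_)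
  by_contra hne
  classical
  have hsupp : F.support.Nonempty := Finset.nonempty_iff_ne_empty.mpr (by simpa using hne)
  have hmin : ∀ S : Finset _, S.Nonempty → ∃ m ∈ S, ∀ n ∈ S, F.coeff m ∣ F.coeff n := by
    intro S hS
    induction hS using Finset.Nonempty.cons_induction with
    | singleton a => exact ⟨a, Finset.mem_singleton_self a, fun n hn => by rw [Finset.mem_singleton.mp hn]⟩
    | cons a S ha _ ih =>
      obtain ⟨m, hm, hdiv⟩ := ih
      rcases htot (F.coeff a) (F.coeff m) with h | h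
      · refine ⟨a, Finset.mem_cons_self a S, fun n hn => ?_⟩
        rcases Finset.mem_cons.mp hn with rfl | hn
        · exact dvd_rfl
        · exact h.trans (hdiv n hn)
      · refine ⟨m, Finset.mem_cons_of_mem hm, fun n hn => ?_⟩
        rcases Finset.mem_cons.mp hn with rfl | hn
        · exact h
        · exact hdiv n hn
  obtain ⟨m, hm, hdiv⟩ := hmin F.support hsupp
  have hc : F.coeff m ≠ 0 := MvPolynomial.mem_support_iff.mp hm
  have hC : MvPolynomial.C (F.coeff m) ∣ F := MvPolynomial.C_dvd_iff_dvd_coeff _ _ |>.mpr fun n => by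
    by_cases hn : n ∈ F.support
    · exact hdiv n hn
    · rw [MvPolynomial.notMem_support_iff.mp hn]; exact dvd_zero _
  obtain ⟨G, hG⟩ := hC
  have hG0 : MvPolynomial.aeval x G = 0 := by
    have h : algebraMap R T (F.coeff m) * MvPolynomial.aeval x G = 0 := by
      rw [← hF]
      conv_rhs => rw [hG]
      rw [map_mul, MvPolynomial.aeval_C]
    exact (mul_eq_zero.mp h).resolve_left fun h0 =>
      hc (FaithfulSMul.algebraMap_injective R T (h0.trans (map_zero _).symm))
  have hGm : G.coeff m = 1 := mul_left_cancel₀ hc (by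
    rw [mul_one, ← MvPolynomial.coeff_C_mul, ← hG])
  have hGbar : MvPolynomial.map (Ideal.Quotient.mk p) G = 0 := hs.eq_zero_of_aeval_eq_zero _ (by
    have key : ∀ G : MvPolynomial _ R, MvPolynomial.aeval (fun i : (s.1 : Set (T ⧸ P)) => (i.1 : T ⧸ P))
        (MvPolynomial.map (Ideal.Quotient.mk p) G) = Ideal.Quotient.mk P (MvPolynomial.aeval x G) := fun G => by
      induction G using MvPolynomial.induction_on with
      | C a => rw [MvPolynomial.map_C, MvPolynomial.aeval_C, MvPolynomial.aeval_C, Ideal.Quotient.algebraMap_mk_of_liesOver]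
      | add a b ha hb => simp only [map_add, ha, hb]
      | mul_X a i ha => simp only [map_mul, MvPolynomial.map_X, MvPolynomial.aeval_X, ha, hx]
    rw [key, hG0, map_zero])
  have := congrArg (MvPolynomial.coeff m) hGbar
  rw [MvPolynomial.coeff_map, hGm, map_one, MvPolynomial.coeff_zero] at this
  exact one_ne_zero this

variable {X Y : Scheme.{u}}

/-- Over a valuation ring, fibre dimensions of closures grow along generizations. -/
theorem fibreClosureDim_le_of_specializes (f : X ⟶ Y) [LocallyOfFiniteType f] {ξ x : X} (h : ξ ⤳ x)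
    {U : Y.Opens} (hU : IsAffineOpen U) (hsU : f x ∈ U) (htot : ∀ a b : Γ(Y, U), a ∣ b ∨ b ∣ a) :
    fibreClosureDim f x ≤ fibreClosureDim f ξ := by
  obtain ⟨V, hV, hxV, hVU⟩ := exists_isAffineOpen_mem_and_subset (X := X) (x := x) (U := f ⁻¹ᵁ U) hsU
  have hVU : V ≤ f ⁻¹ᵁ U := hVU
  letI : Algebra Γ(Y, U) Γ(X, V) := (f.appLE U V hVU).hom.toAlgebra
  haveI hft : Algebra.FiniteType Γ(Y, U) Γ(X, V) := f.finiteType_appLE hU hV hVU
  have hξV : ξ ∈ V := h.mem_open V.isOpen hxV
  let P := (hV.primeIdealOf ⟨x, hxV⟩).asIdeal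
  let p := (hU.primeIdealOf ⟨f x, hVU hxV⟩).asIdeal
  let Q := (hV.primeIdealOf ⟨ξ, hξV⟩).asIdeal
  let p₀ := (hU.primeIdealOf ⟨f ξ, hVU hξV⟩).asIdeal
  have hQP : Q ≤ P := (primeIdealOf_le_iff hV hξV hxV).mpr h
  have hover : P.comap (algebraMap Γ(Y, U) Γ(X, V)) = p :=
    congrArg PrimeSpectrum.asIdeal (IsAffineOpen.comap_primeIdealOf_appLE U hU V hV hVU hxV)
  have hover₀ : Q.comap (algebraMap Γ(Y, U) Γ(X, V)) = p₀ :=
    congrArg PrimeSpectrum.asIdeal (IsAffineOpen.comap_primeIdealOf_appLE U hU V hV hVU hξV)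
  haveI : Q.LiesOver p₀ := ⟨hover₀.symm⟩
  haveI : (P.map (Ideal.Quotient.mk Q)).IsPrime :=
    Ideal.map_isPrime_of_surjective Ideal.Quotient.mk_surjective (by rw [Ideal.mk_ker]; exact hQP)
  have hp₀p : p₀ ≤ p := by rw [← hover, ← hover₀]; exact Ideal.comap_mono hQP
  haveI : (p.map (Ideal.Quotient.mk p₀)).IsPrime :=
    Ideal.map_isPrime_of_surjective Ideal.Quotient.mk_surjective (by rw [Ideal.mk_ker]; exact hp₀p)
  let P' := P.map (Ideal.Quotient.mk Q)
  let p' := p.map (Ideal.Quotient.mk p₀)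
  have hP'c : P'.comap (Ideal.Quotient.mk Q) = P := by
    rw [Ideal.comap_map_of_surjective _ Ideal.Quotient.mk_surjective, ← RingHom.ker_eq_comap_bot, Ideal.mk_ker,
      sup_eq_left.mpr hQP]
  have hp'c : p'.comap (Ideal.Quotient.mk p₀) = p := by
    rw [Ideal.comap_map_of_surjective _ Ideal.Quotient.mk_surjective, ← RingHom.ker_eq_comap_bot, Ideal.mk_ker,
      sup_eq_left.mpr hp₀p]
  haveI : P'.LiesOver p' := ⟨Ideal.comap_injective_of_surjective _ Ideal.Quotient.mk_surjective (by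
    rw [hp'c, ← hover, ← hP'c, Ideal.under, Ideal.comap_comap, Ideal.comap_comap]
    rfl)⟩
  haveI : Algebra.FiniteType Γ(Y, U) (Γ(X, V) ⧸ Q) :=
    Algebra.FiniteType.of_surjective (Ideal.Quotient.mkₐ Γ(Y, U) Q) Ideal.Quotient.mk_surjective
  haveI : Algebra.FiniteType (Γ(Y, U) ⧸ p₀) (Γ(X, V) ⧸ Q) :=
    Algebra.FiniteType.of_restrictScalars_finiteType Γ(Y, U) _ _
  have hinj : Function.Injective (algebraMap (Γ(Y, U) ⧸ p₀) (Γ(X, V) ⧸ Q)) :=
    (injective_iff_map_eq_zero _).mpr fun r hr => by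
      obtain ⟨r, rfl⟩ := Ideal.Quotient.mk_surjective r
      rw [Ideal.Quotient.algebraMap_mk_of_liesOver, Ideal.Quotient.eq_zero_iff_mem] at hr
      rw [Ideal.Quotient.eq_zero_iff_mem, Q.over_def p₀]
      exact hr
  haveI : FaithfulSMul (Γ(Y, U) ⧸ p₀) (Γ(X, V) ⧸ Q) := (faithfulSMul_iff_algebraMap_injective _ _).mpr hinj
  have hmain := tr_quotient_le (R := Γ(Y, U) ⧸ p₀) (fun a b => by
    obtain ⟨a, rfl⟩ := Ideal.Quotient.mk_surjective a
    obtain ⟨b, rfl⟩ := Ideal.Quotient.mk_surjective b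
    exact (htot a b).imp (map_dvd _) (map_dvd _)) P' p'
  have hx1 := ker_evaluation hV x hxV
  have hs1 := ker_evaluation hU (f x) (hVU hxV)
  have e1 : tr ((Γ(Y, U) ⧸ p₀) ⧸ p') ((Γ(X, V) ⧸ Q) ⧸ P') = trH (f.residueFieldMap x).hom := by
    refine (trH_eq P' p' (Ideal.Quotient.lift p₀ (Y.evaluation U (f x) (hVU hxV)).hom fun r hr => ?_)
      (Ideal.Quotient.lift Q (X.evaluation V x hxV).hom fun r hr => ?_) ?_ ?_ (hs1.2.lift p₀ _) (hx1.2.lift Q _) _ ?_).symm
    · rw [← RingHom.mem_ker, hs1.1]; exact hp₀p hr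
    · rw [← RingHom.mem_ker, hx1.1]; exact hQP hr
    · refine Ideal.comap_injective_of_surjective _ Ideal.Quotient.mk_surjective ?_
      rw [hp'c, RingHom.comap_ker, Ideal.Quotient.lift_comp_mk, hs1.1]
    · refine Ideal.comap_injective_of_surjective _ Ideal.Quotient.mk_surjective ?_
      rw [hP'c, RingHom.comap_ker, Ideal.Quotient.lift_comp_mk, hx1.1]
    · refine Ideal.Quotient.ringHom_ext (RingHom.ext fun r => ?_)
      exact RingHom.congr_fun (evaluation_appLE f hVU x hxV) r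
  have hξ1 := ker_evaluation hV ξ hξV
  have hfξ1 := ker_evaluation hU (f ξ) (hVU hξV)
  have e2 : tr (Γ(Y, U) ⧸ p₀) (Γ(X, V) ⧸ Q) = trH (f.residueFieldMap ξ).hom :=
    (trH_eq Q p₀ (Y.evaluation U (f ξ) (hVU hξV)).hom (X.evaluation V ξ hξV).hom hfξ1.1
      hξ1.1 hfξ1.2 hξ1.2 _ (evaluation_appLE f hVU ξ hξV)).symm
  rw [e1, e2] at hmain
  rw [fibreClosureDim_eq_trH, fibreClosureDim_eq_trH]
  exact_mod_cast hmain

end ValFibLib
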