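import Mathlib
import Groth.Agent.FibDimLib.SchemeInv

/-!
# Extensions of the base field give open projections
-/

set_option autoImplicit false
universe u

open CategoryTheory Limits AlgebraicGeometry TopologicalSpace TensorProduct

namespace ValFibLib

theorem isOpenMap_fst_field {k K : Type u} [Field k] [Field K] [Algebra k K] {X : Scheme.{u}}
    (f : X ⟶ Spec (CommRingCat.of k)) :
    IsOpenMap (pullback.fst f (Spec.map (CommRingCat.ofHom (algebraMap k K)))).base := by
  refine fun W hWo => isOpen_iff_mem_nhds.mpr ?_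
  rintro _ ⟨z, hzW, rfl⟩
  have hW : W ∈ nhds z := hWo.mem_nhds hzW
  set p := pullback.fst f (Spec.map (CommRingCat.ofHom (algebraMap k K)))
  obtain ⟨_, ⟨U, hU, rfl⟩, hxU, -⟩ :=
    X.isBasis_affineOpens.exists_subset_of_mem_open (Set.mem_univ (p.base z)) isOpen_univ
  have hU : IsAffineOpen U := hU
  obtain ⟨φ, hφ⟩ : ∃ φ : CommRingCat.of k ⟶ Γ(X, U), Spec.map φ = hU.fromSpec ≫ f := Spec.map_surjective _
  letI := φ.hom.toAlgebra
  have sq := ((IsPullback.of_hasPullback p hU.fromSpec).flip.paste_vert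
    (IsPullback.of_hasPullback f (Spec.map (CommRingCat.ofHom (algebraMap k K))))).flip
  rw [← hφ] at sq
  let e : pullback p hU.fromSpec ≅ Spec (CommRingCat.of (K ⊗[k] Γ(X, U))) :=
    sq.isoPullback ≪≫ pullbackSpecIso k K Γ(X, U)
  let c : Spec (CommRingCat.of (K ⊗[k] Γ(X, U))) ⟶ pullback f (Spec.map (CommRingCat.ofHom (algebraMap k K))) :=
    e.inv ≫ pullback.fst p hU.fromSpec
  have hc : c ≫ p = Spec.map (CommRingCat.ofHom
      (Algebra.TensorProduct.includeRight : Γ(X, U) →ₐ[k] K ⊗[k] Γ(X, U)).toRingHom) ≫ hU.fromSpec := by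
    simp only [c, e, Category.assoc, pullback.condition, Iso.trans_inv]
    rw [IsPullback.isoPullback_inv_snd_assoc]
    exact pullbackSpecIso_inv_snd_assoc _ _ _ _
  have hr : z ∈ Set.range c.base := by
    have hfst : z ∈ Set.range (pullback.fst p hU.fromSpec).base := by
      rw [Scheme.Pullback.range_fst]
      show p.base z ∈ Set.range hU.fromSpec.base
      rw [hU.range_fromSpec]
      exact hxU
    obtain ⟨w, hw⟩ := hfst
    exact ⟨e.hom.base w, by rw [← hw, ← Scheme.Hom.comp_apply, ← Category.assoc, e.hom_inv_id, Category.id_comp]⟩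
  obtain ⟨w, rfl⟩ := hr
  have : IsOpenImmersion c := inferInstance
  have hopen : IsOpenMap (c ≫ p).base := by
    rw [hc]
    refine hU.fromSpec.isOpenEmbedding.isOpenMap.comp ?_
    have hcomm : (Algebra.TensorProduct.includeRight : Γ(X, U) →ₐ[k] K ⊗[k] Γ(X, U)).toRingHom =
        (Algebra.TensorProduct.comm k Γ(X, U) K).toRingEquiv.toRingHom.comp (algebraMap Γ(X, U) (Γ(X, U) ⊗[k] K)) := by
      refine RingHom.ext fun a => ?_
      exact (Algebra.TensorProduct.comm_tmul (R := k) (A := Γ(X, U)) (B := K) a 1).symm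
    show IsOpenMap (PrimeSpectrum.comap _)
    rw [hcomm, CommRingCat.hom_ofHom, PrimeSpectrum.comap_comp]
    exact PrimeSpectrum.isOpenMap_comap_algebraMap_tensorProduct_of_field.comp
      (PrimeSpectrum.homeomorphOfRingEquiv (Algebra.TensorProduct.comm k Γ(X, U) K).toRingEquiv).symm.isOpenMap
  refine Filter.mem_of_superset (hopen.image_mem_nhds (c.base.hom.continuous.continuousAt hW)) ?_
  rintro _ ⟨v, hv, rfl⟩
  exact ⟨c.base v, hv, rfl⟩

theorem isOpenMap_of_isPullback_field {k K : Type u} [Field k] [Field K] [Algebra k K] {F F' : Scheme.{u}}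
    {g0 : F ⟶ Spec (CommRingCat.of k)} {a : F' ⟶ F} {b : F' ⟶ Spec (CommRingCat.of K)}
    (h : IsPullback a b g0 (Spec.map (CommRingCat.ofHom (algebraMap k K)))) : IsOpenMap a.base := by
  rw [← h.isoPullback_hom_fst]
  exact (isOpenMap_fst_field g0).comp h.isoPullback.hom.isOpenEmbedding.isOpenMap

end ValFibLib
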