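import Mathlib
import Groth.Agent.ValFibLib.Basic
import Groth.Agent.ValFibLib.OpenField
import Groth.Agent.S3404
import Groth.Agent.EquidimLib.FlatComponents

/-!
# Fibres of closures of images of universally open families
-/

set_option autoImplicit false
universe u

open CategoryTheory Limits AlgebraicGeometry TopologicalSpace Topology

namespace ValFibLib

open UOpenLib EquidimLib

variable {X Y : Scheme.{u}}

theorem le_of_forall_natCast {a b : WithBot ℕ∞} (h : ∀ n : ℕ, (n : WithBot ℕ∞) ≤ a → (n : WithBot ℕ∞) ≤ b) :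
    a ≤ b := by
  cases a with
  | bot => exact bot_le
  | coe a =>
    cases b with
    | bot => exact absurd (h 0 (WithBot.coe_le_coe.mpr bot_le)) (WithBot.not_coe_le_bot _)
    | coe b =>
      exact WithBot.coe_le_coe.mpr (ENat.forall_natCast_le_iff_le.mp fun n hn =>
        WithBot.coe_le_coe.mp (h n (WithBot.coe_le_coe.mpr hn)))

/-- The dimension of a closed subset of a fibre is bounded by the dimensions at its points. -/
theorem topologicalKrullDim_le_of_fibre (f : X ⟶ Y) [LocallyOfFiniteType f] (y : Y) {T : Set X}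
    (hT : T ⊆ f.base ⁻¹' {y}) (hcl : IsClosed ((f.fiberι y).base ⁻¹' T)) (e : WithBot ℕ∞)
    (h : ∀ z ∈ T, fibreClosureDim f z ≤ e) : topologicalKrullDim ↥T ≤ e := by
  let F := f.fiber y
  let T₀ : Set F := (f.fiberι y).base ⁻¹' T
  have himg : (f.fiberι y).base '' T₀ = T := by
    rw [Set.image_preimage_eq_inter_range, f.range_fiberι, Set.inter_eq_left.mpr hT]
  let ε := ((f.fiberι y).isEmbedding.homeomorphImage T₀).trans (Homeomorph.setCongr himg)
  rw [← IsHomeomorph.topologicalKrullDim_eq ε ε.isHomeomorph]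
  haveI : QuasiSober ↥T₀ := (hcl.isClosedEmbedding_subtypeVal).quasiSober
  refine le_of_forall_natCast fun n hn => ?_
  obtain ⟨c, hinj, hc⟩ := FibDimLib.exists_specChain hn
  refine le_trans ?_ (h ((f.fiberι y).base (c 0).1) (c 0).2)
  rw [fibreClosureDim_fiberι]
  exact le_topologicalKrullDim_of_chain
    (fun i => (⟨(c i).1, ((hc 0 i (Fin.zero_le i)).map continuous_subtype_val).mem_closure⟩ : closure ({(c 0).1} : Set F)))
    (fun i j e => hinj (Subtype.ext (congrArg Subtype.val e :)))
    fun i j hij => IsInducing.subtypeVal.specializes_iff.mp ((hc i j hij).map continuous_subtype_val)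

/-- A point of a base change over a given point, with at least the same fibre dimension. -/
theorem exists_lift_fibreClosureDim {P S' : Scheme.{u}} (f : X ⟶ Y) [LocallyOfFiniteType f] {p : P ⟶ X}
    {b : P ⟶ S'} {g : S' ⟶ Y} (sq : IsPullback p b f g) (z : X) {s' : S'} (hs' : g s' = f z) :
    ∃ w : P, b w = s' ∧ p w = z ∧ fibreClosureDim f z ≤ fibreClosureDim b w := by
  let J := Scheme.IdealSheafData.vanishingIdeal (⟨closure {z}, isClosed_closure⟩ : Closeds X)
  let j := J.subschemeι
  have hrange : Set.range j.base = closure {z} := by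
    rw [J.range_subschemeι, Scheme.IdealSheafData.coe_support_vanishingIdeal]
    rfl
  obtain ⟨z₀, hz₀⟩ : z ∈ Set.range j.base := hrange ▸ subset_closure rfl
  have sq' : IsPullback (pullback.snd p j) (pullback.fst p j ≫ b) (j ≫ f) g :=
    (IsPullback.of_hasPullback p j).flip.paste_vert sq
  obtain ⟨w₁, hw₁, hw₁'⟩ := Scheme.Pullback.exists_preimage_pullback (f := j ≫ f) (g := g) z₀ s'
    (by rw [Scheme.Hom.comp_apply, hz₀, hs'])
  let w₀ := sq'.isoPullback.inv.base w₁
  have h1 : (pullback.snd p j) w₀ = z₀ := by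
    rw [← Scheme.Hom.comp_apply, sq'.isoPullback_inv_fst, hw₁]
  have h2 : (pullback.fst p j ≫ b) w₀ = s' := by
    rw [← Scheme.Hom.comp_apply, sq'.isoPullback_inv_snd, hw₁']
  haveI : LocallyOfFiniteType b := MorphismProperty.of_isPullback sq inferInstance
  obtain ⟨v, hv, hvw, -, hvd⟩ := exists_max_fibreDimAt (pullback.fst p j ≫ b) w₀
  refine ⟨pullback.fst p j v, ?_, ?_, ?_⟩
  · rw [← Scheme.Hom.comp_apply, hv, h2]
  · have hcl : p (pullback.fst p j v) = j (pullback.snd p j v) := by
      rw [← Scheme.Hom.comp_apply, pullback.condition, Scheme.Hom.comp_apply]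
    rw [hcl]
    refine (Specializes.antisymm ?_ ?_).eq
    · have := (hvw.map (pullback.snd p j).continuous).map j.continuous
      rwa [h1, hz₀] at this
    · exact specializes_iff_mem_closure.mpr (hrange ▸ ⟨_, rfl⟩)
  · rw [← fibreClosureDim_closedImmersion, hvd, FibDimLib.fibreDimAt_baseChange sq' w₀, h1, ← hz₀,
      ← fibreClosureDim_closedImmersion]
    exact fibreClosureDim_le_fibreDimAt (j ≫ f) specializes_rfl

/-- Fibre dimensions do not grow under base change. -/
theorem fibreClosureDim_le_fst {P S' : Scheme.{u}} (f : X ⟶ Y) [LocallyOfFiniteType f] {p : P ⟶ X}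
    {b : P ⟶ S'} {g : S' ⟶ Y} (sq : IsPullback p b f g) (w : P) :
    haveI : LocallyOfFiniteType b := MorphismProperty.of_isPullback sq inferInstance
    fibreClosureDim b w ≤ fibreClosureDim f (p w) := by
  haveI : LocallyOfFiniteType b := MorphismProperty.of_isPullback sq inferInstance
  let J := Scheme.IdealSheafData.vanishingIdeal (⟨closure {p w}, isClosed_closure⟩ : Closeds X)
  let j := J.subschemeι
  have hrange : Set.range j.base = closure {p w} := by
    rw [J.range_subschemeι, Scheme.IdealSheafData.coe_support_vanishingIdeal]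
    rfl
  obtain ⟨z₀, hz₀⟩ : p w ∈ Set.range j.base := hrange ▸ subset_closure rfl
  have sq' : IsPullback (pullback.snd p j) (pullback.fst p j ≫ b) (j ≫ f) g :=
    (IsPullback.of_hasPullback p j).flip.paste_vert sq
  obtain ⟨w₀, hw₀, hw₀'⟩ := Scheme.Pullback.exists_preimage_pullback (f := p) (g := j) w z₀ hz₀.symm
  rw [← hw₀, ← fibreClosureDim_closedImmersion]
  refine (fibreClosureDim_le_fibreDimAt _ specializes_rfl).trans ?_
  rw [FibDimLib.fibreDimAt_baseChange sq' w₀, hw₀', hw₀, ← hz₀, ← fibreClosureDim_closedImmersion]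
  refine le_of_eq (fibreDimAt_eq_of_max (j ≫ f) fun z' _ hz' => ?_)
  refine j.isEmbedding.injective ((Specializes.antisymm ?_ ?_).eq)
  · exact (specializes_iff_mem_closure.mpr hz').map j.continuous
  · rw [hz₀]
    exact specializes_iff_mem_closure.mpr (hrange ▸ ⟨z', rfl⟩)

/-- A valuation ring through a specialization. -/
theorem exists_valuationRing_specializes {s s' : Y} (hs : s' ⤳ s) :
    ∃ (A : Type u) (_ : CommRing A) (_ : IsDomain A) (_ : ValuationRing A) (g : Spec (CommRingCat.of A) ⟶ Y),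
      g (IsLocalRing.closedPoint A) = s ∧ g (⟨⊥, Ideal.isPrime_bot⟩ : PrimeSpectrum A) = s' := by
  let ψ : Y.presheaf.stalk s ⟶ Y.residueField s' := Y.presheaf.stalkSpecializes hs ≫ Y.residue s'
  obtain ⟨A, hA, hloc⟩ := IsLocalRing.exists_factor_valuationRing ψ.hom
  haveI : IsLocalHom (ψ.hom.codRestrict A.toSubring hA) := hloc
  let χ : Y.presheaf.stalk s ⟶ CommRingCat.of A := CommRingCat.ofHom (ψ.hom.codRestrict _ hA)
  refine ⟨A, inferInstance, inferInstance, inferInstance, Spec.map χ ≫ Y.fromSpecStalk s, ?_, ?_⟩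
  · rw [Scheme.Hom.comp_apply]
    have : Spec.map χ (IsLocalRing.closedPoint A) = IsLocalRing.closedPoint (Y.presheaf.stalk s) :=
      IsLocalRing.comap_closedPoint (S := A) (ψ.hom.codRestrict A.toSubring hA)
    rw [this, Y.fromSpecStalk_closedPoint]
  · have w : Y.fromSpecResidueField s' =
        Spec.map (CommRingCat.ofHom (algebraMap A (Y.residueField s'))) ≫ Spec.map χ ≫ Y.fromSpecStalk s := by
      rw [Scheme.fromSpecResidueField, ← Scheme.SpecMap_stalkSpecializes_fromSpecStalk hs]
      simp_rw [← Spec.map_comp_assoc]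
      rfl
    have h0 := congrArg (fun φ : Spec (Y.residueField s') ⟶ Y => φ.base (IsLocalRing.closedPoint _)) w
    rw [Scheme.fromSpecResidueField_apply, Scheme.Hom.comp_apply] at h0
    refine Eq.trans ?_ h0.symm
    congr 1
    apply PrimeSpectrum.ext
    show (⊥ : Ideal A) = Ideal.comap (algebraMap A (Y.residueField s')) (IsLocalRing.maximalIdeal _)
    rw [IsLocalRing.isField_iff_maximalIdeal_eq.mp (Field.toIsField _), ← RingHom.ker_eq_comap_bot,
      (RingHom.injective_iff_ker_eq_bot _).mp (IsFractionRing.injective A (Y.residueField s'))]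

/-- The dimension of the closure of the images grows under generization. -/
theorem dim_closure_images_le (f : X ⟶ Y) [LocallyOfFiniteType f] [QuasiCompact f] {ι : Type u}
    (Z : ι → Scheme.{u}) (g : ∀ i, Z i ⟶ Y) [∀ i, UniversallyOpen (g i)] (v : ∀ i, Z i ⟶ X)
    (hv : ∀ i, v i ≫ f = g i) (s s' : Y) (hs : s' ⤳ s) :
    topologicalKrullDim ↥(f.base ⁻¹' {s} ∩ closure ((⋃ i, Set.range (v i).base) ∩ f.base ⁻¹' {s})) ≤
      topologicalKrullDim ↥(f.base ⁻¹' {s'} ∩ closure ((⋃ i, Set.range (v i).base) ∩ f.base ⁻¹' {s'})) := by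
  let E : Set X := ⋃ i, Set.range (v i).base
  refine topologicalKrullDim_le_of_fibre f s Set.inter_subset_left ?_ _ fun z hz => ?_
  · rw [Set.preimage_inter]
    refine IsClosed.inter ?_ (isClosed_closure.preimage (f.fiberι s).continuous)
    rw [show (f.fiberι s).base ⁻¹' (f.base ⁻¹' {s}) = Set.univ from Set.eq_univ_of_forall fun w => by
      have h := Set.mem_range_self (f := (f.fiberι s).base) w
      rw [f.range_fiberι] at h
      exact h]
    exact isClosed_univ
  obtain ⟨hzs, hzcl⟩ := hz
  obtain ⟨A, _, _, _, γ, hγc, hγη⟩ := exists_valuationRing_specializes hs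
  let c : ↥(Spec (CommRingCat.of A)) := IsLocalRing.closedPoint A
  let η : ↥(Spec (CommRingCat.of A)) := (⟨⊥, Ideal.isPrime_bot⟩ : PrimeSpectrum A)
  let P := pullback f γ
  let pr := pullback.fst f γ
  let b := pullback.snd f γ
  have sq := IsPullback.of_hasPullback f γ
  haveI : LocallyOfFiniteType b := MorphismProperty.of_isPullback sq inferInstance
  haveI : QuasiCompact b := MorphismProperty.of_isPullback sq inferInstance
  obtain ⟨w, hbw, hpw, hdw⟩ := exists_lift_fibreClosureDim f sq z (s' := c) (hγc.trans hzs.symm)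
  let T : Set P := pr.base ⁻¹' E ∩ b.base ⁻¹' {η}
  -- the point lies in the closure of the part over the generic point
  have hwT : w ∈ closure T := by
    let π : b.fiber c ⟶ f.fiber (γ c) :=
      pullback.map _ _ _ _ pr (Spec.map (γ.residueFieldMap c)) γ sq.w.symm (by simp)
    have hπ : π ≫ f.fiberι (γ c) = b.fiberι c ≫ pr := pullback.lift_fst _ _ _
    have hopen : IsOpenMap π.base := by
      letI := (γ.residueFieldMap c).hom.toAlgebra
      exact isOpenMap_of_isPullback_field (k := Y.residueField (γ c)) (K := (Spec (CommRingCat.of A)).residueField c)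
        (isPullback_fiberToSpecResidueField_of_isPullback sq c)
    let E₁ : Set ↥(f.fiber (γ c)) := (f.fiberι (γ c)).base ⁻¹' E
    let w₁ : ↥(b.fiber c) := (b.fiberHomeo c).symm ⟨w, hbw⟩
    have hw₁ : (b.fiberι c).base w₁ = w := b.fiberι_fiberHomeo_symm _ _
    have h1 : π w₁ ∈ closure E₁ := by
      rw [(f.fiberι (γ c)).isEmbedding.isInducing.closure_eq_preimage_closure_image]
      rw [Set.mem_preimage, ← Scheme.Hom.comp_apply, hπ, Scheme.Hom.comp_apply, hw₁, hpw, Set.image_preimage_eq_inter_range,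
        f.range_fiberι, hγc]
      exact hzcl
    have h2 : w₁ ∈ closure (π.base ⁻¹' E₁) := by
      rw [← hopen.preimage_closure_eq_closure_preimage π.continuous]; exact h1
    have h3 : (b.fiberι c).base '' (π.base ⁻¹' E₁) ⊆ closure T := by
      rintro _ ⟨q, hq, rfl⟩
      have hqE : pr (b.fiberι c q) ∈ E := by
        rw [← Scheme.Hom.comp_apply, ← hπ]; exact hq
      have hqc : b (b.fiberι c q) = c := by
        have h := Set.mem_range_self (f := (b.fiberι c).base) q
        rw [b.range_fiberι] at h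
        exact h
      obtain ⟨i, y₀, hy₀⟩ := Set.mem_iUnion.mp hqE
      obtain ⟨u₀, hu₀, hu₀'⟩ := Scheme.Pullback.exists_preimage_pullback (f := v i) (g := pr) y₀ (b.fiberι c q) hy₀
      have sqi : IsPullback (pullback.fst (v i) pr) (pullback.snd (v i) pr ≫ b) (g i) γ := by
        rw [← hv i]; exact (IsPullback.of_hasPullback (v i) pr).paste_vert sq
      haveI : UniversallyOpen (pullback.snd (v i) pr ≫ b) := MorphismProperty.of_isPullback sqi inferInstance
      obtain ⟨u₁, hu₁, hu₁'⟩ := (Groth.Agent.S3404.result (pullback.snd (v i) pr ≫ b) u₀).1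
        (fun U hU => (pullback.snd (v i) pr ≫ b).isOpenMap.image_mem_nhds hU) η (by
          rw [Scheme.Hom.comp_apply, hu₀', hqc]
          exact (PrimeSpectrum.le_iff_specializes η c).mp bot_le)
      rw [← hu₀']
      refine closure_mono (Set.singleton_subset_iff.mpr ?_) (hu₁.map (pullback.snd (v i) pr).continuous).mem_closure
      refine ⟨?_, hu₁'⟩
      show pr (pullback.snd (v i) pr u₁) ∈ E
      rw [← Scheme.Hom.comp_apply, ← pullback.condition, Scheme.Hom.comp_apply]
      exact Set.mem_iUnion.mpr ⟨i, Set.mem_range_self _⟩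
    rw [← hw₁]
    exact closure_minimal h3 isClosed_closure
      (image_closure_subset_closure_image (b.fiberι c).continuous ⟨w₁, h2, rfl⟩)
  -- finitely many components in the generic fibre
  let F := b.fiber η
  haveI : CompactSpace ↥F := inferInstance
  haveI : LocallyOfFiniteType (b.fiberToSpecResidueField η) := lft_fiberToSpec b η
  haveI : IsLocallyNoetherian F := LocallyOfFiniteType.isLocallyNoetherian (b.fiberToSpecResidueField η)
  haveI : IsNoetherian F := {}
  let T' : Closeds ↥F := ⟨closure ((b.fiberι η).base ⁻¹' T), isClosed_closure⟩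
  obtain ⟨S₀, hS₀, hT'⟩ := NoetherianSpace.exists_finset_irreducible T'
  have hTsub : T ⊆ ⋃ k ∈ S₀, closure ((b.fiberι η).base '' (k : Set ↥F)) := by
    intro q hq
    obtain ⟨q₀, rfl⟩ : q ∈ Set.range (b.fiberι η).base := by rw [b.range_fiberι]; exact hq.2
    have h4 : q₀ ∈ ((S₀.sup id : Closeds ↥F) : Set ↥F) := hT' ▸ (subset_closure hq : q₀ ∈ (T' : Set ↥F))
    rw [Closeds.coe_finset_sup] at h4
    obtain ⟨k, hk, hqk⟩ : ∃ k ∈ S₀, q₀ ∈ (k : Set ↥F) := by simpa using h4
    exact Set.mem_biUnion hk (subset_closure ⟨q₀, hqk, rfl⟩)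
  obtain ⟨k, hk, hwk⟩ := Set.mem_iUnion₂.mp
    (closure_minimal hTsub (S₀.finite_toSet.isClosed_biUnion fun k _ => isClosed_closure) hwT)
  obtain ⟨ξ₀, hξ₀⟩ := QuasiSober.sober (hS₀ ⟨k, hk⟩) k.2
  let ξ := (b.fiberι η).base ξ₀
  have hξw : ξ ⤳ w := by
    rw [specializes_iff_mem_closure]
    refine closure_minimal ?_ isClosed_closure hwk
    rintro _ ⟨q, hq, rfl⟩
    exact (((hξ₀.specializes hq)).map (b.fiberι η).continuous).mem_closure
  have hξη : b ξ = η := by
    have h := Set.mem_range_self (f := (b.fiberι η).base) ξ₀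
    rw [b.range_fiberι] at h
    exact h
  have hξmem : pr ξ ∈ f.base ⁻¹' {s'} ∩ closure (E ∩ f.base ⁻¹' {s'}) := by
    have hfs : ∀ q, b q = η → f (pr q) = s' := fun q hq => by
      rw [← Scheme.Hom.comp_apply, sq.w, Scheme.Hom.comp_apply, hq, hγη]
    refine ⟨hfs ξ hξη, ?_⟩
    have h5 : ξ₀ ∈ (T' : Set ↥F) := hT' ▸ (Finset.le_sup (f := id) hk) (hξ₀.mem)
    have h6 := (image_closure_subset_closure_image ((b.fiberι η) ≫ pr).continuous) ⟨ξ₀, h5, rfl⟩
    refine closure_mono ?_ h6
    rintro _ ⟨q, hq, rfl⟩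
    rw [Scheme.Hom.comp_apply]
    exact ⟨hq.1, hfs _ hq.2⟩
  have hcT : f.base ⁻¹' {s'} ∩ closure (E ∩ f.base ⁻¹' {s'}) ⊇ closure {pr ξ} ∩ f.base ⁻¹' {f (pr ξ)} := by
    rw [show f (pr ξ) = s' from hξmem.1]
    exact fun q hq => ⟨hq.2, closure_minimal (Set.singleton_subset_iff.mpr hξmem.2) isClosed_closure hq.1⟩
  have e1 := fibreClosureDim_le_of_specializes b hξw (isAffineOpen_top _) trivial fun x y => by
    let ε : Γ(Spec (CommRingCat.of A), ⊤) ≃+* A := (Scheme.ΓSpecIso (CommRingCat.of A)).commRingCatIsoToRingEquiv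
    refine (ValuationRing.dvd_total (ε x) (ε y)).imp (fun h => ?_) (fun h => ?_) <;>
      simpa using map_dvd ε.symm h
  refine hdw.trans (e1.trans ((fibreClosureDim_le_fst f sq ξ).trans ?_))
  rw [fibreClosureDim_eq_inter]
  exact (IsEmbedding.inclusion hcT).isInducing.topologicalKrullDim_le

end ValFibLib
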